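import Groth.Agent.Models.WeilPts
import Groth.Agent.Sga3B.GaPts
import Mathlib.RingTheory.AlgebraicIndependent.Defs
import Mathlib.RingTheory.Localization.Away.Basic
import Mathlib.AlgebraicGeometry.Morphisms.OpenImmersion

/-!
# Points of affine schemes over a field, the affine line, dominant points of the plane

* `affPt`: morphisms to `SpecO k A`;
* `line k = SpecO k k[T]`, `linePt`;
* `isDominant_pair`: for `t, s` algebraically independent in a field `κ`, the point `(t, s)` of `line ⊗ line` is dominant.
-/

set_option autoImplicit false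
universe u

open CategoryTheory CategoryTheory.Limits MonoidalCategory CartesianMonoidalCategory AlgebraicGeometry
open Groth.Agent.Models.WeilPts

namespace Groth.Agent.Sga7.H737.AffPt

variable {k : Type u} [CommRing k]

section General

variable {A : Type u} [CommRing A] [Algebra k A]

/-- The value of the function `a` at a point. -/
noncomputable def val {X : Over (Spec (CommRingCat.of k))} (x : X ⟶ SpecO k A) : A →+* Γ(X.left, ⊤) :=
  x.left.appTop.hom.comp (Scheme.ΓSpecIso (CommRingCat.of A)).inv.hom

/-- The structure map on global sections. -/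
noncomputable def str (X : Over (Spec (CommRingCat.of k))) : k →+* Γ(X.left, ⊤) :=
  X.hom.appTop.hom.comp (Scheme.ΓSpecIso (CommRingCat.of k)).inv.hom

theorem val_comp {X Y : Over (Spec (CommRingCat.of k))} (g : Y ⟶ X) (x : X ⟶ SpecO k A) (a : A) :
    val (g ≫ x) a = g.left.appTop (val x a) := by
  simp only [val, RingHom.comp_apply, Over.comp_left, Scheme.Hom.comp_appTop]
  rfl

theorem val_specMap {B : Type u} [CommRing B] [Algebra k B] {X : Over (Spec (CommRingCat.of k))}
    (x : X ⟶ SpecO k B) (f : A →ₐ[k] B) (a : A) : val (x ≫ specMap f) a = val x (f a) := by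
  rw [val_comp]
  simp only [val, RingHom.comp_apply]
  congr 1
  have h := Scheme.ΓSpecIso_inv_naturality (CommRingCat.ofHom f.toRingHom)
  exact congr($(h.symm) a)

theorem val_algebraMap {X : Over (Spec (CommRingCat.of k))} (x : X ⟶ SpecO k A) (c : k) :
    val x (algebraMap k A c) = str X c := by
  have h := Scheme.ΓSpecIso_inv_naturality (CommRingCat.ofHom (algebraMap k A))
  have h1 : (Scheme.ΓSpecIso (CommRingCat.of A)).inv.hom (algebraMap k A c) =
      (Spec.map (CommRingCat.ofHom (algebraMap k A))).appTop.hom
        ((Scheme.ΓSpecIso (CommRingCat.of k)).inv.hom c) := congr($h c)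
  simp only [val, str, RingHom.comp_apply]
  rw [h1]
  have h2 : x.left ≫ Spec.map (CommRingCat.ofHom (algebraMap k A)) = X.hom := Over.w x
  rw [← h2, Scheme.Hom.comp_appTop]
  rfl

theorem hom_ext {X : Over (Spec (CommRingCat.of k))} {x y : X ⟶ SpecO k A} (h : ∀ a, val x a = val y a) : x = y := by
  ext1
  have h1 : x.left = X.left.toSpecΓ ≫ Spec.map (CommRingCat.ofHom (val x)) := by
    have h2 := Scheme.toSpecΓ_naturality x.left
    rw [val, CommRingCat.ofHom_comp, CommRingCat.ofHom_hom, CommRingCat.ofHom_hom, Spec.map_comp, ← Category.assoc]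
    rw [← h2, Category.assoc]
    change x.left = x.left ≫ (Spec (CommRingCat.of A)).toSpecΓ ≫ Spec.map (Scheme.ΓSpecIso (CommRingCat.of A)).inv
    simp
  have h3 : y.left = X.left.toSpecΓ ≫ Spec.map (CommRingCat.ofHom (val y)) := by
    have h2 := Scheme.toSpecΓ_naturality y.left
    rw [val, CommRingCat.ofHom_comp, CommRingCat.ofHom_hom, CommRingCat.ofHom_hom, Spec.map_comp, ← Category.assoc]
    rw [← h2, Category.assoc]
    change y.left = y.left ≫ (Spec (CommRingCat.of A)).toSpecΓ ≫ Spec.map (Scheme.ΓSpecIso (CommRingCat.of A)).inv
    simp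
  rw [h1, h3, RingHom.ext h]

/-- The point given by a ring homomorphism. -/
noncomputable def affPt (X : Over (Spec (CommRingCat.of k))) (f : A →+* Γ(X.left, ⊤))
    (hf : ∀ c, f (algebraMap k A c) = str X c) : X ⟶ SpecO k A :=
  Over.homMk (X.left.toSpecΓ ≫ Spec.map (CommRingCat.ofHom f)) (by
    change (X.left.toSpecΓ ≫ Spec.map (CommRingCat.ofHom f)) ≫ Spec.map (CommRingCat.ofHom (algebraMap k A)) = X.hom
    rw [Category.assoc, ← Spec.map_comp, ← CommRingCat.ofHom_comp, RingHom.ext (f := f.comp (algebraMap k A)) (g := str X) hf]
    have h2 := Scheme.toSpecΓ_naturality X.hom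
    rw [str, CommRingCat.ofHom_comp, CommRingCat.ofHom_hom, CommRingCat.ofHom_hom, Spec.map_comp, ← Category.assoc]
    rw [← h2, Category.assoc]
    simp)

@[simp]
theorem val_affPt (X : Over (Spec (CommRingCat.of k))) (f : A →+* Γ(X.left, ⊤))
    (hf : ∀ c, f (algebraMap k A c) = str X c) (a : A) : val (affPt X f hf) a = f a :=
  Groth.Agent.Sga3B.GaPts.appTop_toSpecΓ_comp f a

end General

section Loc

variable {A B : Type u} [CommRing A] [Algebra k A] [CommRing B] [Algebra k B]

/-- Points of a localization `B` of `A` away from `f`: two of them with the same values on `A` are equal. -/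
theorem hom_ext_loc [Algebra A B] [IsScalarTower k A B] (M : Submonoid A) [IsLocalization M B]
    {X : Over (Spec (CommRingCat.of k))} {x y : X ⟶ SpecO k B}
    (h : ∀ a, val x (algebraMap A B a) = val y (algebraMap A B a)) : x = y := by
  have h1 : val x = val y := by
    apply IsLocalization.ringHom_ext M
    ext a
    exact h a
  exact hom_ext fun b => congr($h1 b)

/-- The inclusion of a basic open subset. -/
noncomputable abbrev locι (A B : Type u) [CommRing A] [Algebra k A] [CommRing B] [Algebra k B] [Algebra A B]
    [IsScalarTower k A B] : SpecO k B ⟶ SpecO k A := specMap (IsScalarTower.toAlgHom k A B)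

theorem isOpenImmersion_locι [Algebra A B] [IsScalarTower k A B] (f : A) [IsLocalization.Away f B] :
    IsOpenImmersion (locι (k := k) A B).left :=
  IsOpenImmersion.of_isLocalization (R := A) (S := B) f

/-- The point of a localization given by a point at which `f` is invertible. -/
noncomputable def locPt [Algebra A B] [IsScalarTower k A B] (f : A) [IsLocalization.Away f B]
    {X : Over (Spec (CommRingCat.of k))} (x : X ⟶ SpecO k A) (hx : IsUnit (val x f)) : X ⟶ SpecO k B :=
  affPt X (IsLocalization.Away.lift f hx) (fun c => by
    rw [IsScalarTower.algebraMap_apply k A B, IsLocalization.Away.lift_eq, val_algebraMap])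

@[reassoc (attr := simp)]
theorem locPt_comp [Algebra A B] [IsScalarTower k A B] (f : A) [IsLocalization.Away f B]
    {X : Over (Spec (CommRingCat.of k))} (x : X ⟶ SpecO k A) (hx : IsUnit (val x f)) :
    locPt (B := B) f x hx ≫ locι A B = x := by
  apply hom_ext
  intro a
  rw [val_specMap, locPt, val_affPt]
  exact IsLocalization.Away.lift_eq f hx a

end Loc

section Line

variable (k)

/-- The affine line over `k`. -/
noncomputable abbrev line : Over (Spec (CommRingCat.of k)) := SpecO k (Polynomial k)

/-- The affine plane over `k`. -/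
noncomputable abbrev plane : Over (Spec (CommRingCat.of k)) := SpecO k (MvPolynomial (Fin 2) k)

variable {k}

/-- The coordinate of a point of the line. -/
noncomputable abbrev coord {X : Over (Spec (CommRingCat.of k))} (x : X ⟶ line k) : Γ(X.left, ⊤) :=
  val x Polynomial.X

theorem line_ext {X : Over (Spec (CommRingCat.of k))} {x y : X ⟶ line k} (h : coord x = coord y) : x = y := by
  have h1 : val x = val y := by
    apply Polynomial.ringHom_ext
    · intro c
      exact (val_algebraMap x c).trans (val_algebraMap y c).symm
    · exact h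
  exact hom_ext fun b => congr($h1 b)

/-- The point of the line with given coordinate. -/
noncomputable def linePt (X : Over (Spec (CommRingCat.of k))) (x : Γ(X.left, ⊤)) : X ⟶ line k :=
  affPt X (Polynomial.eval₂RingHom (str X) x) (fun c => by
    rw [Polynomial.algebraMap_eq, Polynomial.coe_eval₂RingHom, Polynomial.eval₂_C])

@[simp]
theorem coord_linePt (X : Over (Spec (CommRingCat.of k))) (x : Γ(X.left, ⊤)) : coord (linePt X x) = x := by
  rw [coord, linePt, val_affPt, Polynomial.coe_eval₂RingHom, Polynomial.eval₂_X]

/-- The point of the plane with given coordinates. -/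
noncomputable def planePt (X : Over (Spec (CommRingCat.of k))) (x : Fin 2 → Γ(X.left, ⊤)) : X ⟶ plane k :=
  affPt X (MvPolynomial.eval₂Hom (str X) x) (fun c => by
    rw [MvPolynomial.algebraMap_eq, MvPolynomial.eval₂Hom_C])

@[simp]
theorem val_planePt (X : Over (Spec (CommRingCat.of k))) (x : Fin 2 → Γ(X.left, ⊤)) (i : Fin 2) :
    val (planePt X x) (MvPolynomial.X i) = x i := by
  rw [planePt, val_affPt, MvPolynomial.eval₂Hom_X']

/-- The map from the plane to the product of two lines. -/
noncomputable def planeTo : plane k ⟶ line k ⊗ line k :=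
  lift (specMap (Polynomial.aeval (MvPolynomial.X 0))) (specMap (Polynomial.aeval (MvPolynomial.X 1)))

/-- The map from the product of two lines to the plane. -/
noncomputable def toPlane : line k ⊗ line k ⟶ plane k :=
  planePt _ ![coord (fst (line k) (line k)), coord (snd (line k) (line k))]

theorem toPlane_planeTo : toPlane ≫ planeTo = 𝟙 (line k ⊗ line k) := by
  apply CartesianMonoidalCategory.hom_ext
  · rw [Category.assoc, planeTo, lift_fst, Category.id_comp]
    apply line_ext
    rw [coord, val_specMap, Polynomial.aeval_X, toPlane, val_planePt]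
    rfl
  · rw [Category.assoc, planeTo, lift_snd, Category.id_comp]
    apply line_ext
    rw [coord, val_specMap, Polynomial.aeval_X, toPlane, val_planePt]
    rfl

theorem surjective_planeTo : Surjective (planeTo (k := k)).left := by
  constructor
  intro y
  refine ⟨toPlane.left y, ?_⟩
  rw [← Scheme.Hom.comp_apply, ← Over.comp_left, toPlane_planeTo]
  rfl

end Line

section Field

variable {F : Type u} [Field F]

theorem isDominant_specMap {A B : Type u} [CommRing A] [Algebra F A] [CommRing B] [Algebra F B] (f : A →ₐ[F] B)
    (hf : Function.Injective f) : IsDominant (specMap f).left := by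
  constructor
  change DenseRange (PrimeSpectrum.comap f.toRingHom)
  rw [PrimeSpectrum.denseRange_comap_iff_ker_le_nilRadical, (RingHom.injective_iff_ker_eq_bot f.toRingHom).mp hf]
  exact bot_le

/-- For `t, s` algebraically independent the point `(t, s)` of the product of two lines is dominant. -/
theorem isDominant_pair {κ : Type u} [CommRing κ] [Algebra F κ] (t s : κ) (hts : AlgebraicIndependent F ![t, s])
    (x y : SpecO F κ ⟶ line F)
    (hx : coord x = (Scheme.ΓSpecIso (CommRingCat.of κ)).inv.hom t)
    (hy : coord y = (Scheme.ΓSpecIso (CommRingCat.of κ)).inv.hom s) : IsDominant (lift x y).left := by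
  have h1 : lift x y = specMap (MvPolynomial.aeval ![t, s]) ≫ planeTo := by
    have key : ∀ (q : Polynomial F →ₐ[F] κ), coord (specMap q) =
        (Scheme.ΓSpecIso (CommRingCat.of κ)).inv.hom (q Polynomial.X) := by
      intro q
      have h := Scheme.ΓSpecIso_inv_naturality (CommRingCat.ofHom q.toRingHom)
      exact congr($(h.symm) Polynomial.X)
    apply CartesianMonoidalCategory.hom_ext
    · rw [lift_fst, Category.assoc, planeTo, lift_fst, specMap_comp]
      apply line_ext
      rw [hx, key]
      simp
    · rw [lift_snd, Category.assoc, planeTo, lift_snd, specMap_comp]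
      apply line_ext
      rw [hy, key]
      simp
  rw [h1]
  have h2 : IsDominant (specMap (MvPolynomial.aeval ![t, s] : MvPolynomial (Fin 2) F →ₐ[F] κ)).left :=
    isDominant_specMap _ hts
  have h3 := surjective_planeTo (k := F)
  have h4 : IsDominant (planeTo (k := F)).left := inferInstance
  have h5 : IsDominant ((specMap (MvPolynomial.aeval ![t, s] : MvPolynomial (Fin 2) F →ₐ[F] κ)).left ≫
    (planeTo (k := F)).left) := inferInstance
  exact h5

end Field

end Groth.Agent.Sga7.H737.AffPt
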