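import Groth.Agent.Sga7.H737.RatHom
import Groth.Agent.Sga7.H737.AffPt
import Groth.Agent.S1582
import Mathlib.RingTheory.Localization.Away.Lemmas

/-!
# A generically additive (multiplicative) point extends to a homomorphism from `𝔾_a` (`𝔾_m`)

* `core`: for a group `M` which is an open subscheme of the line;
* `additive`: `M = Red.Ga`;
* `multiplicative`: `M = Red.Gm`.
-/

set_option autoImplicit false
universe u

open CategoryTheory CategoryTheory.Limits MonoidalCategory CartesianMonoidalCategory MonObj AlgebraicGeometry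
open Groth.Agent.Models.WeilPts Groth.Agent.Sga7.H737.AffPt Groth.Agent.Sga7.H737.RatHom

namespace Groth.Agent.Sga7.H737.R4

variable {k : Type u} [Field k] [IsAlgClosed k]

omit [IsAlgClosed k] in
theorem coord_specMap {κ : Type u} [CommRing κ] [Algebra k κ] {B : Type u} [CommRing B] [Algebra k B] (q : B →ₐ[k] κ)
    (b : B) : val (specMap q) b = (Scheme.ΓSpecIso (CommRingCat.of κ)).inv.hom (q b) := by
  have h := Scheme.ΓSpecIso_inv_naturality (CommRingCat.ofHom q.toRingHom)
  exact congr($(h.symm) b)

/-- A rational homomorphism from a group which is an open subscheme of the line extends. -/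
theorem core {M G : Over (Spec (CommRingCat.of k))} [GrpObj M] [GrpObj G] (ε : M ⟶ line k)
    [IsOpenImmersion ε.left] {B : Type u} [CommRing B] [Nontrivial B] [Algebra k B] [Algebra (Polynomial k) B]
    [IsScalarTower k (Polynomial k) B] (i : SpecO k B ⟶ M) [IsOpenImmersion i.left]
    (hi : i ≫ ε = locι (Polynomial k) B) (h : SpecO k B ⟶ G) {κ : Type u} [Field κ] [Algebra k κ] (t s : κ)
    (hts : AlgebraicIndependent k ![t, s]) (x y z : B →ₐ[k] κ)
    (hx : x (algebraMap (Polynomial k) B Polynomial.X) = t) (hy : y (algebraMap (Polynomial k) B Polynomial.X) = s)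
    (hmul : (specMap x ≫ i) * (specMap y ≫ i) = specMap z ≫ i)
    (hadd : (specMap x ≫ h) * (specMap y ≫ h) = specMap z ≫ h) (hne : h ≠ 1) :
    ∃ j : M ⟶ G, IsMonHom j ∧ i ≫ j = h ∧ j ≠ 1 := by
  have hneU : Nonempty (SpecO k B).left := inferInstanceAs (Nonempty (PrimeSpectrum B))
  have hneM : Nonempty M.left := ⟨i.left hneU.some⟩
  have hIA : IsIntegral (line k).left := inferInstanceAs (IsIntegral (Spec (CommRingCat.of (Polynomial k))))
  have hIM : IsIntegral M.left := isIntegral_of_isOpenImmersion ε.left
  have hw : M.hom = ε.left ≫ (line k).hom := (Over.w ε).symm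
  have hftl : LocallyOfFiniteType (line k).hom := by
    have : Algebra.FiniteType k (Polynomial k) := inferInstance
    change LocallyOfFiniteType (Spec.map (CommRingCat.ofHom (algebraMap k (Polynomial k))))
    rw [HasRingHomProperty.Spec_iff (P := @LocallyOfFiniteType)]
    exact (RingHom.finiteType_algebraMap).mpr this
  have hft : LocallyOfFiniteType M.hom := by rw [hw]; infer_instance
  have hsepM : IsSeparated M.hom := Groth.Agent.Books.AntiAffine.isSeparated_hom M
  have hsepG : IsSeparated G.hom := Groth.Agent.Books.AntiAffine.isSeparated_hom G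
  have hNl : IsNoetherian (line k).left := by
    change IsNoetherian (Spec (CommRingCat.of (Polynomial k)))
    infer_instance
  have hqcε : QuasiCompact ε.left := inferInstance
  have hqc : QuasiCompact M.hom := by rw [hw]; infer_instance
  have hI2 : IsIntegral (M ⊗ M).left := S1582.result k M.left M.left M.hom M.hom
  have hεε : IsOpenImmersion (ε ⊗ₘ ε).left :=
    Scheme.pullback_map_isOpenImmersion _ _ _ _ ε.left ε.left (𝟙 _) ((Category.comp_id _).trans hw)
      ((Category.comp_id _).trans hw)
  have hdom : IsDominant (lift (specMap x ≫ i) (specMap y ≫ i)).left := by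
    have h1 : lift (specMap x ≫ i) (specMap y ≫ i) ≫ (ε ⊗ₘ ε) =
        lift (specMap x ≫ locι (Polynomial k) B) (specMap y ≫ locι (Polynomial k) B) := by
      rw [lift_map, Category.assoc, Category.assoc, hi]
    have h2 : IsDominant (lift (specMap x ≫ locι (Polynomial k) B) (specMap y ≫ locι (Polynomial k) B)).left := by
      apply isDominant_pair t s hts
      · rw [coord, val_specMap, coord_specMap]
        exact congrArg _ hx
      · rw [coord, val_specMap, coord_specMap]
        exact congrArg _ hy
    rw [← h1] at h2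
    constructor
    have h6 : Set.range (lift (specMap x ≫ i) (specMap y ≫ i)).left = (ε ⊗ₘ ε).left ⁻¹'
        (Set.range (lift (specMap x ≫ i) (specMap y ≫ i) ≫ (ε ⊗ₘ ε)).left) := by
      ext q
      constructor
      · rintro ⟨p, rfl⟩
        exact ⟨p, rfl⟩
      · rintro ⟨p, hp⟩
        exact ⟨p, (ε ⊗ₘ ε).left.isOpenEmbedding.injective hp⟩
    rw [DenseRange, h6]
    exact h2.denseRange.preimage (ε ⊗ₘ ε).left.isOpenEmbedding.isOpenMap
  have hred : IsReduced (M ⊗ M).left := inferInstance
  obtain ⟨j, hj1, hj2⟩ := exists_hom i h (fun {X} x' y' z' hxyz =>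
    mul_of_dominant i h (specMap x) (specMap y) (specMap z) hmul hdom hadd x' y' z' hxyz)
  refine ⟨j, hj1, hj2, ?_⟩
  rintro rfl
  exact hne (hj2.symm.trans (comp_one i))

section Additive

open Groth.Agent.Sga3B.GaPts

omit [IsAlgClosed k]

/-- The additive group is the line. -/
noncomputable def gaLine : Red.Ga (Spec (CommRingCat.of k)) ≅ line k where
  hom := linePt _ (Red.gaFn (𝟙 (Red.Ga (Spec (CommRingCat.of k)))))
  inv := gaPt (line k) (coord (𝟙 (line k)))
  hom_inv_id := by
    apply gaFn_injective
    rw [comp_gaPt, gaFn_gaPt, ← val_comp, Category.comp_id]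
    exact coord_linePt _ _
  inv_hom_id := by
    apply line_ext
    rw [coord, val_comp]
    have h1 : val (linePt _ (Red.gaFn (𝟙 (Red.Ga (Spec (CommRingCat.of k)))))) Polynomial.X =
      Red.gaFn (𝟙 (Red.Ga (Spec (CommRingCat.of k)))) := coord_linePt _ _
    rw [h1, ← gaFn_comp, Category.comp_id, gaFn_gaPt]

theorem gaFn_gaLine_inv {X : Over (Spec (CommRingCat.of k))} (x : X ⟶ line k) :
    Red.gaFn (x ≫ gaLine.inv) = coord x := by
  change Red.gaFn (x ≫ gaPt (line k) (coord (𝟙 (line k)))) = coord x
  rw [comp_gaPt, gaFn_gaPt, ← val_comp, Category.comp_id]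

end Additive

/-- A generically additive point of `G` extends to a homomorphism from `𝔾_a`. -/
theorem additive_gen {G : Over (Spec (CommRingCat.of k))} [GrpObj G] {B : Type u} [CommRing B] [Nontrivial B]
    [Algebra k B] [Algebra (Polynomial k) B] [IsScalarTower k (Polynomial k) B] (β : Polynomial k)
    [IsLocalization.Away β B] (h : SpecO k B ⟶ G) {κ : Type u} [Field κ] [Algebra k κ] (t s : κ)
    (hts : AlgebraicIndependent k ![t, s]) (x y z : B →ₐ[k] κ)
    (hx : x (algebraMap (Polynomial k) B Polynomial.X) = t) (hy : y (algebraMap (Polynomial k) B Polynomial.X) = s)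
    (hz : z (algebraMap (Polynomial k) B Polynomial.X) = t + s)
    (hadd : specMap z ≫ h = (specMap x ≫ h) * (specMap y ≫ h)) (hne : h ≠ 1) :
    ∃ j : Red.Ga (Spec (CommRingCat.of k)) ⟶ G, IsMonHom j ∧ j ≠ 1 := by
  have h1 : IsOpenImmersion (gaLine (k := k)).hom.left := by
    have : IsIso (gaLine (k := k)).hom.left := inferInstanceAs (IsIso ((Over.forget _).map (gaLine (k := k)).hom))
    infer_instance
  have h2 : IsOpenImmersion (locι (k := k) (Polynomial k) B).left := isOpenImmersion_locι β
  have h3 : IsOpenImmersion (locι (k := k) (Polynomial k) B ≫ gaLine.inv).left := by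
    have : IsIso (gaLine (k := k)).inv.left := inferInstanceAs (IsIso ((Over.forget _).map (gaLine (k := k)).inv))
    rw [Over.comp_left]
    infer_instance
  obtain ⟨j, hj1, -, hj3⟩ := core (M := Red.Ga (Spec (CommRingCat.of k))) gaLine.hom (B := B)
    (locι (Polynomial k) B ≫ gaLine.inv) (by rw [Category.assoc, Iso.inv_hom_id, Category.comp_id]) h t s hts x y z
    hx hy (by
      apply Groth.Agent.Sga3B.GaPts.gaFn_injective
      rw [Groth.Agent.Sga3B.GaPts.gaFn_mul, ← Category.assoc, ← Category.assoc, ← Category.assoc, gaFn_gaLine_inv,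
        gaFn_gaLine_inv, gaFn_gaLine_inv, coord, coord, coord, val_specMap, val_specMap, val_specMap, coord_specMap,
        coord_specMap, coord_specMap]
      change _ + _ = (Scheme.ΓSpecIso (CommRingCat.of κ)).inv.hom (z (algebraMap (Polynomial k) B Polynomial.X))
      rw [hz, map_add, ← hx, ← hy]
      rfl) hadd.symm hne
  exact ⟨j, hj1, hj3⟩

/-- Subtask H757-R4: a generically additive point `h ∈ G(k[T]_β)` extends to a nontrivial homomorphism `𝔾_a ⟶ G`. -/
theorem additive (G : Over (Spec (CommRingCat.of k))) [GrpObj G] (β : Polynomial k) (hβ : β ≠ 0)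
    (h : SpecO k (Localization.Away β) ⟶ G) (κ : Type u) [Field κ] [Algebra k κ] (t s : κ)
    (hts : AlgebraicIndependent k ![t, s]) (x y z : Localization.Away β →ₐ[k] κ)
    (hx : x (algebraMap (Polynomial k) _ Polynomial.X) = t) (hy : y (algebraMap (Polynomial k) _ Polynomial.X) = s)
    (hz : z (algebraMap (Polynomial k) _ Polynomial.X) = t + s)
    (hadd : specMap z ≫ h = (specMap x ≫ h) * (specMap y ≫ h)) (hne : h ≠ 1) :
    ∃ j : Red.Ga (Spec (CommRingCat.of k)) ⟶ G, IsMonHom j ∧ j ≠ 1 := by
  have : Nontrivial (Localization.Away β) :=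
    (IsLocalization.injective (M := Submonoid.powers β) (Localization.Away β)
      (powers_le_nonZeroDivisors_of_noZeroDivisors hβ)).nontrivial
  exact additive_gen β h t s hts x y z hx hy hz hadd hne

end Groth.Agent.Sga7.H737.R4
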