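import Groth.Agent.Sga7.H737.R4

/-!
# A generically multiplicative point extends to a homomorphism from `𝔾_m`
-/

set_option autoImplicit false
universe u

open CategoryTheory CategoryTheory.Limits MonoidalCategory CartesianMonoidalCategory MonObj AlgebraicGeometry
open Groth.Agent.Models.WeilPts Groth.Agent.Sga7.H737.AffPt Groth.Agent.Sga7.H737.RatHom Groth.Agent.Sga7.H737.R4
open Groth.Agent.Sga3B.DSPts Groth.Agent.Sga3B.GaPts

namespace Groth.Agent.Sga7.H737.R4m

section Gm

variable {S : Scheme.{u}}

theorem gmFn_comp {T T' : Over S} (h : T' ⟶ T) (x : T ⟶ Red.Gm S) :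
    Red.gmFn (h ≫ x) = h.left.appTop (Red.gmFn x) := by
  rw [gmFn_eq, dsChar_comp, gmFn_eq]
  rfl

theorem gmFn_mul {T : Over S} (x y : T ⟶ Red.Gm S) : Red.gmFn (x * y) = Red.gmFn x * Red.gmFn y := by
  rw [gmFn_eq, dsChar_mul, gmFn_eq, gmFn_eq]
  rfl

theorem gmFn_injective {T : Over S} : Function.Injective (Red.gmFn : (T ⟶ Red.Gm S) → _) := by
  intro x y h
  rw [gmFn_eq, gmFn_eq] at h
  have h1 : dsChar x = dsChar y := MonoidHom.ext_mint h
  rw [← dsEquiv_dsChar x, h1, dsEquiv_dsChar]

/-- The point of `𝔾_m` with given (invertible) coordinate. -/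
noncomputable def gmPt (T : Over S) (x : Γ(T.left, ⊤)ˣ) : T ⟶ Red.Gm S :=
  dsEquiv T ℤ ((Units.coeHom _).comp (zpowersHom _ x))

theorem gmFn_gmPt (T : Over S) (x : Γ(T.left, ⊤)ˣ) : Red.gmFn (gmPt T x) = x := by
  rw [gmFn_eq, gmPt, dsChar_dsEquiv]
  simp

theorem isUnit_gmFn {T : Over S} (x : T ⟶ Red.Gm S) : IsUnit (Red.gmFn x) := by
  rw [gmFn_eq]
  exact (Group.isUnit (Multiplicative.ofAdd (1 : ℤ))).map (dsChar x)

end Gm

section Line

variable {k : Type u} [CommRing k]

/-- `𝔾_m ⟶ line`. -/
noncomputable def gmLine : Red.Gm (Spec (CommRingCat.of k)) ⟶ line k :=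
  linePt _ (Red.gmFn (𝟙 (Red.Gm (Spec (CommRingCat.of k)))))

theorem coord_gmLine {X : Over (Spec (CommRingCat.of k))} (x : X ⟶ Red.Gm (Spec (CommRingCat.of k))) :
    coord (x ≫ gmLine) = Red.gmFn x := by
  rw [coord, val_comp]
  have h1 : val (linePt _ (Red.gmFn (𝟙 (Red.Gm (Spec (CommRingCat.of k)))))) Polynomial.X =
    Red.gmFn (𝟙 (Red.Gm (Spec (CommRingCat.of k)))) := coord_linePt _ _
  rw [gmLine, h1, ← gmFn_comp, Category.comp_id]

/-- A point of the line with invertible coordinate comes from `𝔾_m`. -/
theorem exists_gm {X : Over (Spec (CommRingCat.of k))} (x : X ⟶ line k) (hx : IsUnit (coord x)) :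
    ∃ y : X ⟶ Red.Gm (Spec (CommRingCat.of k)), y ≫ gmLine = x := by
  obtain ⟨u, hu⟩ := hx
  refine ⟨gmPt X u, line_ext ?_⟩
  rw [coord_gmLine, gmFn_gmPt, hu]

instance mono_gmLine : Mono (gmLine (k := k)) := by
  constructor
  intro Z a b h
  apply gmFn_injective
  rw [← coord_gmLine, ← coord_gmLine, h]

theorem isOpenImmersion_gmLine : IsOpenImmersion (gmLine (k := k)).left := by
  let L := Localization.Away (Polynomial.X : Polynomial k)
  have hu : IsUnit (coord (locι (k := k) (Polynomial k) L)) := by
    rw [coord, ← Category.id_comp (locι (k := k) (Polynomial k) L), val_specMap]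
    exact (IsLocalization.Away.algebraMap_isUnit (S := L) (Polynomial.X : Polynomial k)).map _
  obtain ⟨f, hf⟩ := exists_gm (locι (k := k) (Polynomial k) L) hu
  have hg : IsUnit (val (gmLine (k := k)) Polynomial.X) := by
    have := isUnit_gmFn (𝟙 (Red.Gm (Spec (CommRingCat.of k))))
    rw [← coord_gmLine, Category.id_comp] at this
    exact this
  let g := locPt (B := L) Polynomial.X gmLine hg
  have hgc : g ≫ locι (k := k) (Polynomial k) L = gmLine := locPt_comp _ _ _
  have hopen : IsOpenImmersion (locι (k := k) (Polynomial k) L).left :=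
    isOpenImmersion_locι (Polynomial.X : Polynomial k)
  have hm : Mono (locι (k := k) (Polynomial k) L) := mono_of_isOpenImmersion _
  have e1 : g ≫ f = 𝟙 _ := by
    rw [← cancel_mono gmLine, Category.assoc, hf, hgc, Category.id_comp]
  have e2 : f ≫ g = 𝟙 _ := by
    rw [← cancel_mono (locι (k := k) (Polynomial k) L), Category.assoc, hgc, hf, Category.id_comp]
  have hiso : IsIso g := ⟨f, e1, e2⟩
  have hiso' : IsIso g.left := inferInstanceAs (IsIso ((Over.forget _).map g))
  rw [← hgc, Over.comp_left]
  infer_instance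

end Line

variable {k : Type u} [Field k] [IsAlgClosed k]

/-- A generically multiplicative point of `G` extends to a homomorphism from `𝔾_m` (case of an invertible coordinate). -/
theorem multiplicative_gen {G : Over (Spec (CommRingCat.of k))} [GrpObj G] {B : Type u} [CommRing B] [Nontrivial B]
    [Algebra k B] [Algebra (Polynomial k) B] [IsScalarTower k (Polynomial k) B]
    (hopen : IsOpenImmersion (locι (k := k) (Polynomial k) B).left)
    (hu : IsUnit (algebraMap (Polynomial k) B Polynomial.X)) (h : SpecO k B ⟶ G) {κ : Type u} [Field κ]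
    [Algebra k κ] (t s : κ)
    (hts : AlgebraicIndependent k ![t, s]) (x y z : B →ₐ[k] κ)
    (hx : x (algebraMap (Polynomial k) B Polynomial.X) = t) (hy : y (algebraMap (Polynomial k) B Polynomial.X) = s)
    (hz : z (algebraMap (Polynomial k) B Polynomial.X) = t * s)
    (hadd : specMap z ≫ h = (specMap x ≫ h) * (specMap y ≫ h)) (hne : h ≠ 1) :
    ∃ j : Red.Gm (Spec (CommRingCat.of k)) ⟶ G, IsMonHom j ∧ j ≠ 1 := by
  have h1 := isOpenImmersion_gmLine (k := k)
  have hu' : IsUnit (coord (locι (k := k) (Polynomial k) B)) := by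
    rw [coord, ← Category.id_comp (locι (k := k) (Polynomial k) B), val_specMap]
    exact hu.map _
  obtain ⟨i, hi⟩ := exists_gm (locι (k := k) (Polynomial k) B) hu'
  have h3 : IsOpenImmersion i.left := by
    have h4 : IsOpenImmersion (i.left ≫ gmLine.left) := by
      rw [← Over.comp_left, hi]; exact hopen
    exact IsOpenImmersion.of_comp i.left gmLine.left
  obtain ⟨j, hj1, -, hj3⟩ := core (M := Red.Gm (Spec (CommRingCat.of k))) gmLine (B := B) i hi h t s hts x y z
    hx hy (by
      apply gmFn_injective
      rw [gmFn_mul, ← coord_gmLine, ← coord_gmLine, ← coord_gmLine, Category.assoc, Category.assoc, Category.assoc,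
        hi, coord, coord, coord, val_specMap, val_specMap, val_specMap, coord_specMap, coord_specMap, coord_specMap]
      change _ * _ = (Scheme.ΓSpecIso (CommRingCat.of κ)).inv.hom (z (algebraMap (Polynomial k) B Polynomial.X))
      rw [hz, map_mul, ← hx, ← hy]
      rfl) hadd.symm hne
  exact ⟨j, hj1, hj3⟩

/-- A generically multiplicative point `h ∈ G(k[T]_β)` extends to a nontrivial homomorphism `𝔾_m ⟶ G`. -/
theorem multiplicative (G : Over (Spec (CommRingCat.of k))) [GrpObj G] (β : Polynomial k) (hβ : β ≠ 0)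
    (h : SpecO k (Localization.Away β) ⟶ G) (κ : Type u) [Field κ] [Algebra k κ] (t s : κ)
    (hts : AlgebraicIndependent k ![t, s]) (x y z : Localization.Away β →ₐ[k] κ)
    (hx : x (algebraMap (Polynomial k) _ Polynomial.X) = t) (hy : y (algebraMap (Polynomial k) _ Polynomial.X) = s)
    (hz : z (algebraMap (Polynomial k) _ Polynomial.X) = t * s)
    (hadd : specMap z ≫ h = (specMap x ≫ h) * (specMap y ≫ h)) (hne : h ≠ 1) :
    ∃ j : Red.Gm (Spec (CommRingCat.of k)) ⟶ G, IsMonHom j ∧ j ≠ 1 := by
  have hinj : Function.Injective (algebraMap (Polynomial k) (Localization.Away β)) :=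
    IsLocalization.injective (M := Submonoid.powers β) (Localization.Away β)
      (powers_le_nonZeroDivisors_of_noZeroDivisors hβ)
  have hdB : IsDomain (Localization.Away β) :=
    IsLocalization.isDomain_of_le_nonZeroDivisors _ (powers_le_nonZeroDivisors_of_noZeroDivisors hβ)
  let X' : Localization.Away β := algebraMap (Polynomial k) (Localization.Away β) Polynomial.X
  have hX' : X' ≠ 0 := by
    intro h0
    have := hinj (h0.trans (map_zero _).symm)
    exact Polynomial.X_ne_zero this
  let B := Localization.Away X'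
  have hinj2 : Function.Injective (algebraMap (Localization.Away β) B) :=
    IsLocalization.injective (M := Submonoid.powers X') B (powers_le_nonZeroDivisors_of_noZeroDivisors hX')
  have hB : Nontrivial B := hinj2.nontrivial
  have ht : t ≠ 0 := by
    have := hts.ne_zero 0
    simpa using this
  have hs : s ≠ 0 := by
    have := hts.ne_zero 1
    simpa using this
  have ext : ∀ (q : Localization.Away β →ₐ[k] κ), q X' ≠ 0 → ∃ q' : B →ₐ[k] κ,
      q'.comp (IsScalarTower.toAlgHom k (Localization.Away β) B) = q := by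
    intro q hq
    have h6 : ∀ m : Submonoid.powers X', IsUnit (q m) := by
      rintro ⟨_, n, rfl⟩
      change IsUnit (q (X' ^ n))
      rw [map_pow]
      exact (IsUnit.mk0 _ hq).pow n
    refine ⟨IsLocalization.liftAlgHom (M := Submonoid.powers X') h6, ?_⟩
    ext
    exact IsLocalization.lift_eq _ _
  obtain ⟨x', hx'⟩ := ext x (by rw [hx]; exact ht)
  obtain ⟨y', hy'⟩ := ext y (by rw [hy]; exact hs)
  obtain ⟨z', hz'⟩ := ext z (by rw [hz]; exact mul_ne_zero ht hs)
  have hsep : IsSeparated G.hom := Groth.Agent.Books.AntiAffine.isSeparated_hom G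
  have hv : ∀ (q : Localization.Away β →ₐ[k] κ) (q' : B →ₐ[k] κ),
      q'.comp (IsScalarTower.toAlgHom k (Localization.Away β) B) = q →
      q' (algebraMap (Polynomial k) B Polynomial.X) = q X' := by
    rintro q q' rfl
    rw [AlgHom.comp_apply]
    congr 1
  have h1 : specMap (IsScalarTower.toAlgHom k (Localization.Away β) B) ≫ h ≠ 1 := by
    intro h0
    apply hne
    have hdom : IsDominant (specMap (IsScalarTower.toAlgHom k (Localization.Away β) B)).left :=
      isDominant_specMap _ hinj2
    have hred : IsReduced (SpecO k (Localization.Away β)).left :=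
      inferInstanceAs (IsReduced (Spec (CommRingCat.of (Localization.Away β))))
    apply eq_of_dominant (specMap (IsScalarTower.toAlgHom k (Localization.Away β) B))
    rw [h0, comp_one]
  have hopen : IsOpenImmersion (locι (k := k) (Polynomial k) B).left := by
    have h5 : locι (k := k) (Polynomial k) B = locι (k := k) (Localization.Away β) B ≫
        locι (k := k) (Polynomial k) (Localization.Away β) := by
      rw [specMap_comp]
      congr 1
    have h7 : IsOpenImmersion (locι (k := k) (Localization.Away β) B).left := isOpenImmersion_locι X'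
    have h8 : IsOpenImmersion (locι (k := k) (Polynomial k) (Localization.Away β)).left := isOpenImmersion_locι β
    rw [h5, Over.comp_left]
    infer_instance
  refine multiplicative_gen (B := B) hopen ?_ (specMap (IsScalarTower.toAlgHom k (Localization.Away β) B) ≫ h) t s
    hts x' y' z' ((hv x x' hx').trans hx) ((hv y y' hy').trans hy) ((hv z z' hz').trans hz) ?_ h1
  · exact IsLocalization.Away.algebraMap_isUnit (S := B) X'
  · rw [specMap_comp_assoc, specMap_comp_assoc, specMap_comp_assoc, hx', hy', hz', hadd]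

end Groth.Agent.Sga7.H737.R4m
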