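import Groth.Agent.Sga7.H737.FlatMonoBC
import Groth.Agent.Sga7.H741.EndStep
import Mathlib.AlgebraicGeometry.Group.Abelian

/-!
# Homomorphisms of groups of unipotent rank zero which are isomorphisms on the generic fibre

Conditional on the statement `FlatNhd` (= S4061).
-/

set_option autoImplicit false
universe u

open CategoryTheory CategoryTheory.Limits AlgebraicGeometry TopologicalSpace MonObj MonoidalCategory

namespace Groth.Agent.Sga7.H737.S4056Asm

open Groth.Agent.Sga7.H737.FlatMonoBC

/-- A flat separated group scheme which is commutative after a scheme-theoretically dominant base change is commutative. -/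
theorem isCommMonObj_of_dominant {S T : Scheme.{u}} (j : T ⟶ S) [IsSchemeTheoreticallyDominant j] [QuasiCompact j]
    (G : Over S) [GrpObj G] [Flat G.hom] [IsSeparated G.hom] (h : IsCommMonObj ((Over.pullback j).obj G)) :
    IsCommMonObj G := by
  rw [isCommMonObj_iff_commutator_eq_toUnit_η] at h ⊢
  have hf : Flat (G ⊗ G).hom := by dsimp; infer_instance
  apply ext_of_dominant j
  rw [← cancel_epi (Functor.Monoidal.μIso (Over.pullback j) G G).hom]
  dsimp [GrpObj.commutator] at h ⊢
  simpa only [Functor.Monoidal.μIso_hom, Functor.map_mul, one_eq_one, comp_one, Functor.map_one, Functor.map_inv',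
    comp_mul, GrpObj.comp_inv, Functor.Monoidal.μ_fst, Functor.Monoidal.μ_snd] using h

/-- Commutativity transports along isomorphisms of group objects. -/
theorem isCommMonObj_of_iso {C : Type*} [Category C] [CartesianMonoidalCategory C] [BraidedCategory C] {A B : C} [MonObj A] [MonObj B]
    (e : A ⟶ B) [IsMonHom e] [Mono e] [h : IsCommMonObj B] : IsCommMonObj A := by
  constructor
  change (BraidedCategory.braiding A A).hom ≫ μ[A] = μ[A]
  rw [← cancel_mono e, Category.assoc, IsMonHom.mul_hom, ← BraidedCategory.braiding_naturality_assoc,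
    IsCommMonObj.mul_comm]

/-- An isomorphism is an isogeny. -/
theorem isIsogenyOver_of_isIso {S : Scheme.{u}} {G H : Over S} [GrpObj H] (v : G ⟶ H) [IsIso v] :
    SGA7.IsIsogenyOver v := by
  have h1 : IsIso v.left := inferInstanceAs (IsIso ((Over.forget _).map v))
  refine ⟨inferInstance, fun N i hi => ?_⟩
  have h2 : IsIso (CartesianMonoidalCategory.toUnit N) := by
    have h3 : IsPullback i (CartesianMonoidalCategory.toUnit N) v η[H] := hi
    exact h3.isIso_snd_of_isIso
  have h4 : IsIso (CartesianMonoidalCategory.toUnit N).left :=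
    inferInstanceAs (IsIso ((Over.forget _).map (CartesianMonoidalCategory.toUnit N)))
  have h5 : N.hom = (CartesianMonoidalCategory.toUnit N).left := by
    have := Over.w (CartesianMonoidalCategory.toUnit N)
    rw [← this]
    exact Category.comp_id _
  rw [h5]
  infer_instance

theorem exists_lift_field (R K κ : Type u) [CommRing R] [IsDomain R] [Field K]
    [Algebra R K] [IsFractionRing R K] [Field κ] (ρ : R →+* κ) (hρ : Function.Injective ρ) :
    ∃ r : K →+* κ, r.comp (algebraMap R K) = ρ :=
  ⟨IsFractionRing.lift hρ, by ext x; exact IsFractionRing.lift_algebraMap hρ x⟩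

/-- The residue field at the generic point. -/
theorem isIso_fibreHom_generic (R K : Type u) [CommRing R] [IsDomain R] [Field K]
    [Algebra R K] [IsFractionRing R K] (G N : Over (Spec (CommRingCat.of R)))
    (u : G ⟶ N) [IsIso ((SGA7.genFib R K).map u)] (t : Spec (CommRingCat.of R)) (ht : t.asIdeal = ⊥) :
    IsIso (SGA7.fibreHom t u) := by
  let κ := (Spec (CommRingCat.of R)).residueField t
  let ρ : CommRingCat.of R ⟶ κ := Spec.preimage ((Spec (CommRingCat.of R)).fromSpecResidueField t)
  have hρ : Spec.map ρ = (Spec (CommRingCat.of R)).fromSpecResidueField t := Spec.map_preimage _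
  have hker : RingHom.ker ρ.hom = ⊥ := by
    have h1 : (Spec.map ρ) (IsLocalRing.closedPoint κ) = t := by
      rw [hρ]
      exact Scheme.fromSpecResidueField_apply _ _
    have h2 : (PrimeSpectrum.comap ρ.hom (IsLocalRing.closedPoint κ)).asIdeal = t.asIdeal :=
      congrArg PrimeSpectrum.asIdeal h1
    rw [ht] at h2
    rw [← h2]
    change RingHom.ker ρ.hom = Ideal.comap ρ.hom (IsLocalRing.maximalIdeal κ)
    rw [IsLocalRing.maximalIdeal_eq_bot]
    rfl
  have hinj : Function.Injective ρ.hom := (RingHom.injective_iff_ker_eq_bot _).mpr hker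
  obtain ⟨r, hr⟩ := exists_lift_field R K κ ρ.hom hinj
  have hfac : (Spec (CommRingCat.of R)).fromSpecResidueField t =
      Spec.map (CommRingCat.ofHom r) ≫ Spec.map (CommRingCat.ofHom (algebraMap R K)) := by
    rw [← hρ, ← Spec.map_comp, ← CommRingCat.ofHom_comp, hr]
    rfl
  change IsIso ((Over.pullback ((Spec (CommRingCat.of R)).fromSpecResidueField t)).map u)
  rw [hfac, NatIso.isIso_map_iff (Over.pullbackComp _ _)]
  change IsIso ((Over.pullback _).map ((SGA7.genFib R K).map u))
  infer_instance

/-- The statement of S4061. -/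
def FlatNhd : Prop :=
  ∀ {S : Scheme.{u}} (G H : Over S) [GrpObj G] [IsCommMonObj G]
    [Flat G.hom] [IsSeparated G.hom] [LocallyOfFinitePresentation G.hom] [QuasiCompact G.hom]
    [GrpObj H] [Smooth H.hom] [QuasiSeparated H.hom]
    (u : G ⟶ H) [IsMonHom u] (s t : ↥S) (_ : t ⤳ s) (_ : SGA7.FibreUnipotentRankZero s G)
    (_ : SGA7.IsIsogenyOver (SGA7.fibreHom t u)),
    ∃ U : S.Opens, s ∈ U ∧ Flat ((Over.pullback U.ι).map u).left ∧
      LocallyQuasiFinite ((Over.pullback U.ι).map u).left

/-- Being an open immersion can be tested on an open cover of the base. -/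
theorem isOpenImmersion_of_nhds {S : Scheme.{u}} {G H : Over S} (u : G ⟶ H)
    (h : ∀ s : S, ∃ U : S.Opens, s ∈ U ∧ IsOpenImmersion ((Over.pullback U.ι).map u).left) :
    IsOpenImmersion u.left := by
  choose U hU hu using h
  have hop : ∀ s, IsOpenImmersion (bcι (U s).ι H) := fun s =>
    inferInstanceAs (IsOpenImmersion (pullback.fst H.hom (U s).ι))
  refine IsZariskiLocalAtTarget.of_iSup_eq_top (P := @IsOpenImmersion)
    (fun x : H.left => (bcι (U (H.hom x)).ι H).opensRange) ?_ fun x => ?_
  · rw [eq_top_iff]
    rintro x -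
    rw [TopologicalSpace.Opens.mem_iSup]
    refine ⟨x, ?_⟩
    obtain ⟨z, hz, -⟩ := exists_bcι_eq (U (H.hom x)).ι H x ⟨H.hom x, hU _⟩ rfl
    exact ⟨z, hz⟩
  · rw [(@IsOpenImmersion).arrow_mk_iso_iff (morphismRestrictOpensRange u.left (bcι (U (H.hom x)).ι H))]
    change IsOpenImmersion (pullback.snd u.left (bcι (U (H.hom x)).ι H))
    have := hu (H.hom x)
    rw [← (isPullback_map (U (H.hom x)).ι u).flip.isoPullback_inv_snd]
    infer_instance

/-- A homomorphism of group schemes over a domain, of unipotent rank zero source, which is an isomorphism on the generic fibres,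
is an open immersion. -/
theorem main (h61 : FlatNhd.{u}) (R K : Type u) [CommRing R] [IsDomain R] [Field K]
    [Algebra R K] [IsFractionRing R K] (G N : Over (Spec (CommRingCat.of R))) [GrpObj G] [GrpObj N]
    [IsCommMonObj G] [Flat G.hom] [IsSeparated G.hom] [LocallyOfFinitePresentation G.hom] [QuasiCompact G.hom]
    [Smooth N.hom] [QuasiSeparated N.hom] (hG : SGA7.FibresUnipotentRankZero G)
    (u : G ⟶ N) [IsMonHom u] [IsIso ((SGA7.genFib R K).map u)] : IsOpenImmersion u.left := by
  let t : Spec (CommRingCat.of R) := (⊥ : PrimeSpectrum R)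
  have ht : ∀ x : Spec (CommRingCat.of R), t ⤳ x := fun x =>
    (PrimeSpectrum.le_iff_specializes (⊥ : PrimeSpectrum R) x).mp bot_le
  have h1 : IsIso (SGA7.fibreHom t u) := isIso_fibreHom_generic R K G N u t rfl
  refine isOpenImmersion_of_nhds u fun s => ?_
  obtain ⟨U, hsU, hU, -⟩ := h61 G N u s t (ht s) (hG s) (isIsogenyOver_of_isIso _)
  exact ⟨U, hsU, Groth.Agent.Sga7.H741.EndStep.isOpenImmersion_of_flat u U t fun x _ => ht x⟩

/-- S4056 -/
theorem S4056_of (h61 : FlatNhd.{u}) (R K : Type u) [CommRing R] [IsDedekindDomain R] [Field K] [Algebra R K]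
    [IsFractionRing R K]
    (N : Over (Spec (CommRingCat.of R))) [GrpObj N] (hN : SGA7.IsNeron R K N)
    [IsProper ((SGA7.genFib R K).obj N).hom] [GeometricallyIntegral ((SGA7.genFib R K).obj N).hom]
    (G : Over (Spec (CommRingCat.of R))) [GrpObj G] [Smooth G.hom] [IsSeparated G.hom] [QuasiCompact G.hom]
    (hG : SGA7.FibresUnipotentRankZero G) (u : G ⟶ N) [IsMonHom u] [IsIso ((SGA7.genFib R K).map u)] :
    IsOpenImmersion u.left := by
  obtain ⟨i1, i2, i3, -⟩ := hN
  have hd : IsSchemeTheoreticallyDominant (Spec.map (CommRingCat.ofHom (algebraMap R K))) := by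
    have : IsDominant (Spec.map (CommRingCat.ofHom (algebraMap R K))) := by
      constructor
      change DenseRange (PrimeSpectrum.comap (algebraMap R K))
      rw [PrimeSpectrum.denseRange_comap_iff_ker_le_nilRadical,
        (RingHom.injective_iff_ker_eq_bot _).mp (IsFractionRing.injective R K)]
      exact bot_le
    exact .of_isDominant _
  have h1 : IsCommMonObj ((SGA7.genFib R K).obj N) := isCommMonObj_of_isProper_of_geometricallyIntegral _
  have h2 : IsCommMonObj ((SGA7.genFib R K).obj G) := isCommMonObj_of_iso ((SGA7.genFib R K).map u)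
  have h3 : IsCommMonObj G := isCommMonObj_of_dominant (Spec.map (CommRingCat.ofHom (algebraMap R K))) G h2
  exact main h61 R K G N hG u

end Groth.Agent.Sga7.H737.S4056Asm
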