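import Groth.Agent.Dix.FlatMonoStalk
import Groth.Agent.Grpsch.Cotangent
import Mathlib.AlgebraicGeometry.Morphisms.FlatMono
import Mathlib.AlgebraicGeometry.Morphisms.Etale
import Mathlib.CategoryTheory.Monoidal.Cartesian.Over

/-!
# Base change along flat monomorphisms (localizations of the base)

For `j : T ⟶ S` a flat monomorphism and `X` over `S`, `bcι j X : X_T ⟶ X` is a flat monomorphism.  A morphism `g` over `S`
has the same stalk maps as its base change, and it is injective over the image of `j` if its base change is injective.
If `j` is scheme-theoretically dominant, morphisms from a flat to a separated `S`-scheme which agree over `T` are equal.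
-/

set_option autoImplicit false
universe u

open CategoryTheory CategoryTheory.Limits AlgebraicGeometry TopologicalSpace

namespace Groth.Agent.Sga7.H737.FlatMonoBC

open Groth.Agent.Dix.FlatMonoStalk

variable {S T : Scheme.{u}} (j : T ⟶ S)

/-- The projection `X_T ⟶ X`. -/
noncomputable def bcι (X : Over S) : ((Over.pullback j).obj X).left ⟶ X.left :=
  pullback.fst X.hom j

theorem isPullback_bcι (X : Over S) :
    IsPullback (bcι j X) ((Over.pullback j).obj X).hom X.hom j :=
  IsPullback.of_hasPullback X.hom j

instance flat_bcι [Flat j] (X : Over S) : Flat (bcι j X) :=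
  MorphismProperty.of_isPullback (isPullback_bcι j X).flip inferInstance

instance mono_bcι [Mono j] (X : Over S) : Mono (bcι j X) :=
  inferInstanceAs (Mono (pullback.fst X.hom j))

instance quasiCompact_bcι [QuasiCompact j] (X : Over S) : QuasiCompact (bcι j X) :=
  MorphismProperty.of_isPullback (isPullback_bcι j X).flip inferInstance

theorem isSchemeTheoreticallyDominant_bcι [IsSchemeTheoreticallyDominant j] [QuasiCompact j]
    (X : Over S) [Flat X.hom] : IsSchemeTheoreticallyDominant (bcι j X) :=
  IsSchemeTheoreticallyDominant.of_isPullback (isPullback_bcι j X).flip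

@[reassoc]
theorem bcι_naturality {X Y : Over S} (g : X ⟶ Y) :
    ((Over.pullback j).map g).left ≫ bcι j Y = bcι j X ≫ g.left :=
  pullback.lift_fst _ _ _

/-- The base change of a morphism over `S` is a pullback. -/
theorem isPullback_map {X Y : Over S} (g : X ⟶ Y) :
    IsPullback ((Over.pullback j).map g).left (bcι j X) (bcι j Y) g.left := by
  have h1 : IsPullback (((Over.pullback j).map g).left ≫ ((Over.pullback j).obj Y).hom) (bcι j X) j
      (g.left ≫ Y.hom) := by
    convert! (isPullback_bcι j X).flip using 1
    · exact Over.w ((Over.pullback j).map g)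
    · exact Over.w g
  exact IsPullback.of_right h1 (bcι_naturality j g) (isPullback_bcι j Y).flip

theorem hom_bcι (X : Over S) (z : ((Over.pullback j).obj X).left) :
    X.hom (bcι j X z) = j (((Over.pullback j).obj X).hom z) :=
  congr($((isPullback_bcι j X).w) z)

theorem exists_bcι_eq (X : Over S) (x : X.left) (t : T) (hx : X.hom x = j t) :
    ∃ z, bcι j X z = x ∧ ((Over.pullback j).obj X).hom z = t :=
  Scheme.exists_preimage_of_isPullback (isPullback_bcι j X) x t hx

/-- The stalk maps of `g` and of its base change. -/
theorem isIso_stalkMap_bcι_iff [Flat j] [Mono j] {X Y : Over S} (g : X ⟶ Y)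
    (z : ((Over.pullback j).obj X).left) :
    IsIso (g.left.stalkMap (bcι j X z)) ↔ IsIso (((Over.pullback j).map g).left.stalkMap z) := by
  have h1 := isIso_stalkMap_of_flat_of_mono (bcι j X) z
  have h2 := isIso_stalkMap_of_flat_of_mono (bcι j Y) (((Over.pullback j).map g).left z)
  have h3 := Scheme.Hom.stalkMap_comp (bcι j X) g.left z
  have h4 := Scheme.Hom.stalkMap_comp ((Over.pullback j).map g).left (bcι j Y) z
  have key : IsIso ((bcι j X ≫ g.left).stalkMap z) ↔
      IsIso ((((Over.pullback j).map g).left ≫ bcι j Y).stalkMap z) := by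
    have := bcι_naturality j g
    rw [this]
  rw [h3, h4] at key
  constructor
  · intro h
    have h5 := key.mp (@IsIso.comp_isIso _ _ _ _ _ _ _ h h1)
    exact @IsIso.of_isIso_comp_left _ _ _ _ _ _ _ h2 h5
  · intro h
    have h5 := key.mpr (@IsIso.comp_isIso _ _ _ _ _ _ _ h2 h)
    exact @IsIso.of_isIso_comp_right _ _ _ _ _ _ _ h1 h5

/-- Injectivity over a point `j t` of `S`, for `j` an injective base change. -/
theorem eq_of_map_eq [Mono j] {X Y : Over S} (g : X ⟶ Y)
    (hg : Function.Injective ((Over.pullback j).map g).left) (hY : Function.Injective (bcι j Y))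
    (t : T) {x x' : X.left} (hx : X.hom x = j t) (hx' : X.hom x' = j t) (h : g.left x = g.left x') :
    x = x' := by
  obtain ⟨z, rfl, -⟩ := exists_bcι_eq j X x t hx
  obtain ⟨z', rfl, -⟩ := exists_bcι_eq j X x' t hx'
  have hn : ∀ w, g.left (bcι j X w) = bcι j Y (((Over.pullback j).map g).left w) := fun w =>
    congr($((bcι_naturality j g).symm) w)
  rw [hn, hn] at h
  rw [hg (hY h)]

/-- Morphisms from a flat to a separated `S`-scheme which agree over a scheme-theoretically dominant base change are
equal. -/
theorem ext_of_dominant [IsSchemeTheoreticallyDominant j] [QuasiCompact j] {X Y : Over S}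
    [Flat X.hom] [IsSeparated Y.hom] (f g : X ⟶ Y)
    (h : (Over.pullback j).map f = (Over.pullback j).map g) : f = g := by
  have := isSchemeTheoreticallyDominant_bcι j X
  ext1
  refine Groth.Agent.Grpsch.Cotangent.ext_of_isSchemeTheoreticallyDominant Y.hom
    ((Over.w f).trans (Over.w g).symm) (bcι j X) ?_
  rw [← bcι_naturality, ← bcι_naturality, h]

/-- The same with an isomorphism (or monomorphism) after base change: if `g_T` is a monomorphism then two morphisms to the
separated scheme `Y` which agree after composition with `g` are equal. -/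
theorem ext_of_comp_eq [IsSchemeTheoreticallyDominant j] [QuasiCompact j] {X Y Z : Over S}
    [Flat X.hom] [IsSeparated Y.hom] (g : Y ⟶ Z) [Mono ((Over.pullback j).map g)] (a b : X ⟶ Y)
    (h : a ≫ g = b ≫ g) : a = b := by
  apply ext_of_dominant j
  rw [← cancel_mono ((Over.pullback j).map g), ← Functor.map_comp, ← Functor.map_comp, h]

end Groth.Agent.Sga7.H737.FlatMonoBC
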