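import Groth.Prelude.Def_SGA7IX
import Groth.Agent.Sga3B.Parab.GeomFib147
import Groth.Agent.Sga3B.RedIso
import Groth.Agent.Sga7.H737.FlatMonoBC

/-!
# Unipotent rank zero and base changes with algebraic residue field extensions

If `f : S' ⟶ S` is locally quasi-finite (e.g. a localization) then the geometric fibres of `G` at `f s'` and of `G ×_S S'` at `s'`
differ by an isomorphism of algebraically closed fields, so that `FibreUnipotentRankZero (f s') G` implies
`FibreUnipotentRankZero s' (Red.bc f G)`.
-/

set_option autoImplicit false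
universe u

open CategoryTheory MonoidalCategory CartesianMonoidalCategory MonObj GrpObj AlgebraicGeometry

namespace Groth.Agent.Sga7.H737.RankZeroBC

open Groth.Agent.Sga3B Groth.Agent.Sga3B.RedIso Groth.Agent.Sga3B.Parab.GeomFib147

/-- The base change of the additive group. -/
noncomputable def gaBc {S S' : Scheme.{u}} (f : S' ⟶ S) : Grp.mk (Red.bc f (Red.Ga S)) ≅ Grp.mk (Red.Ga S') :=
  (BcIso.bcCompIso f (Limits.IsTerminal.from specULiftZIsTerminal S) Red.GaZ).symm ≪≫
    BcIso.bcCongrIso (Limits.IsTerminal.hom_ext specULiftZIsTerminal _ _) Red.GaZ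

/-- Descent of a closed immersion of the additive group along an isomorphism of the base. -/
theorem exists_ga_of_iso {T T' : Scheme.{u}} (φ : T' ⟶ T) [IsIso φ] (G : Over T) [GrpObj G]
    (j : Red.Ga T' ⟶ Red.bc φ G) [IsMonHom j] (hj : IsClosedImmersion j.left) :
    ∃ j' : Red.Ga T ⟶ G, IsMonHom j' ∧ IsClosedImmersion j'.left := by
  let a : Red.Ga T ≅ Red.bc (CategoryTheory.inv φ) (Red.Ga T') := und (gaBc (CategoryTheory.inv φ)).symm
  let b : Red.bc (CategoryTheory.inv φ) (Red.bc φ G) ≅ G := und (unbcIso' φ G)
  have ha : IsMonHom a.hom := inferInstanceAs (IsMonHom (und (gaBc (CategoryTheory.inv φ)).symm).hom)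
  have hb : IsMonHom b.hom := inferInstanceAs (IsMonHom (und (unbcIso' φ G)).hom)
  refine ⟨a.hom ≫ (Over.pullback (CategoryTheory.inv φ)).map j ≫ b.hom, inferInstance, ?_⟩
  have h1 : IsClosedImmersion ((Over.pullback (CategoryTheory.inv φ)).map j).left :=
    MorphismProperty.of_isPullback (H737.FlatMonoBC.isPullback_map (CategoryTheory.inv φ) j).flip hj
  have ha' : IsIso a.hom.left := inferInstanceAs (IsIso ((Over.forget _).map a.hom))
  have hb' : IsIso b.hom.left := inferInstanceAs (IsIso ((Over.forget _).map b.hom))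
  have h7 : IsClosedImmersion (a.hom.left ≫ ((Over.pullback (CategoryTheory.inv φ)).map j).left ≫ b.hom.left) :=
    inferInstance
  exact h7

/-- Unipotent rank zero passes to the fibres of a locally quasi-finite base change. -/
theorem fibreUnipotentRankZero_bc {S S' : Scheme.{u}} (f : S' ⟶ S) [LocallyQuasiFinite f] (G : Over S) [GrpObj G]
    (s' : S') (h : SGA7.FibreUnipotentRankZero (f s') G) : SGA7.FibreUnipotentRankZero s' (Red.bc f G) := by
  intro j hj hcl
  obtain ⟨φ, hφ, hsq⟩ := exists_geomPt f s'
  let e := sqIso (q := Red.geomPt s') (g := f) (q' := φ) (g' := Red.geomPt (f s')) hsq G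
  have he : IsMonHom (und e).hom := inferInstance
  obtain ⟨j', h1, h2⟩ := exists_ga_of_iso φ (Red.geomFibre (f s') G) (j ≫ (und e).hom) (by
    have he' : IsIso (und e).hom.left := inferInstanceAs (IsIso ((Over.forget _).map (und e).hom))
    have h3 : IsClosedImmersion (j.left ≫ (und e).hom.left) := inferInstance
    exact h3)
  exact h j' h1 h2

end Groth.Agent.Sga7.H737.RankZeroBC
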