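import Mathlib.AlgebraicGeometry.Group.Abelian
import Mathlib.AlgebraicGeometry.AlgClosed.Basic
import Mathlib.AlgebraicGeometry.Gluing
import Mathlib.CategoryTheory.Monoidal.Cartesian.Over
import Groth.Agent.Books.AntiAffine

/-!
# Rational homomorphisms of group schemes extend

Let `M`, `G` be group schemes over an algebraically closed field, `M` locally of finite type with `M`, `M × M` integral, `i : U ⟶ M` a
nonempty open subscheme and `h : U ⟶ G` a morphism with `h(x) h(y) = h(x y)` whenever `x, y, x y` lie in `U`.  Then `h`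
extends (uniquely) to a homomorphism `M ⟶ G`.  The additivity hypothesis may be checked at a single dominant point
of `M × M`.
-/

set_option autoImplicit false
universe u

open CategoryTheory CategoryTheory.Limits MonoidalCategory CartesianMonoidalCategory MonObj AlgebraicGeometry
  TopologicalSpace

namespace Groth.Agent.Sga7.H737.RatHom

section Over

variable {S : Scheme.{u}}

/-- Two `S`-morphisms from a reduced to a separated `S`-scheme which agree after a dominant morphism are equal. -/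
theorem eq_of_dominant {X Y W : Over S} [IsReduced X.left] [IsSeparated Y.hom] (w : W ⟶ X) [IsDominant w.left]
    (f g : X ⟶ Y) (h : w ≫ f = w ≫ g) : f = g := by
  ext1
  exact ext_of_isDominant_of_isSeparated Y.hom ((Over.w f).trans (Over.w g).symm) w.left congr($(h).left)

/-- Lifting through an open immersion. -/
noncomputable def liftO {U M X : Over S} (i : U ⟶ M) [IsOpenImmersion i.left] (x : X ⟶ M)
    (hx : Set.range x.left ⊆ Set.range i.left) : X ⟶ U :=
  Over.homMk (IsOpenImmersion.lift i.left x.left hx) (by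
    rw [← Over.w i, IsOpenImmersion.lift_fac_assoc, Over.w])

@[reassoc (attr := simp)]
theorem liftO_comp {U M X : Over S} (i : U ⟶ M) [IsOpenImmersion i.left] (x : X ⟶ M)
    (hx : Set.range x.left ⊆ Set.range i.left) : liftO i x hx ≫ i = x := by
  ext1
  exact IsOpenImmersion.lift_fac _ _ _

theorem mono_of_isOpenImmersion {U M : Over S} (i : U ⟶ M) [IsOpenImmersion i.left] : Mono i := by
  have : Mono i.left := inferInstance
  exact Over.mono_of_mono_left i

/-- An open subscheme as an object over the base. -/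
noncomputable abbrev opn {X : Over S} (V : X.left.Opens) : Over S := Over.mk (V.ι ≫ X.hom)

/-- The inclusion of an open subscheme. -/
noncomputable abbrev opnι {X : Over S} (V : X.left.Opens) : opn V ⟶ X := Over.homMk V.ι rfl

instance {X : Over S} (V : X.left.Opens) : IsOpenImmersion (opnι V).left := inferInstanceAs (IsOpenImmersion V.ι)

theorem range_opnι {X : Over S} (V : X.left.Opens) : Set.range (opnι V).left = V := by
  change Set.range V.ι = _
  simp

theorem isReduced_opn {X : Over S} [IsReduced X.left] (V : X.left.Opens) : IsReduced (opn V).left :=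
  isReduced_of_isOpenImmersion V.ι

theorem isDominant_opnι {X : Over S} (V : X.left.Opens) (hV : Dense (V : Set X.left)) : IsDominant (opnι V).left := by
  constructor
  rw [DenseRange, range_opnι]
  exact hV

/-- additivity at one dominant point implies additivity everywhere -/
theorem mul_of_dominant {M G U : Over S} [GrpObj M] [GrpObj G] [IsSeparated G.hom] [IsReduced (M ⊗ M).left]
    (i : U ⟶ M) [IsOpenImmersion i.left] (h : U ⟶ G) {P : Over S} (a b c : P ⟶ U)
    (habc : (a ≫ i) * (b ≫ i) = c ≫ i) (hdom : IsDominant (lift (a ≫ i) (b ≫ i)).left)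
    (hadd : (a ≫ h) * (b ≫ h) = c ≫ h)
    {X : Over S} (x y z : X ⟶ U) (hxyz : (x ≫ i) * (y ≫ i) = z ≫ i) : (x ≫ h) * (y ≫ h) = z ≫ h := by
  have hmono : Mono i := mono_of_isOpenImmersion i
  let WO : (M ⊗ M).left.Opens := (fst M M).left ⁻¹ᵁ i.left.opensRange ⊓ (snd M M).left ⁻¹ᵁ i.left.opensRange ⊓
    (fst M M * snd M M).left ⁻¹ᵁ i.left.opensRange
  let w : opn WO ⟶ M ⊗ M := opnι WO
  have hw : ∀ q : (opn WO).left, w.left q ∈ WO := fun q => by
    have : w.left q ∈ Set.range (opnι WO).left := ⟨q, rfl⟩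
    rw [range_opnι] at this
    exact this
  have h1 : Set.range (w ≫ fst M M).left ⊆ Set.range i.left := by
    rintro _ ⟨q, rfl⟩
    exact (hw q).1.1
  have h2 : Set.range (w ≫ snd M M).left ⊆ Set.range i.left := by
    rintro _ ⟨q, rfl⟩
    exact (hw q).1.2
  have h3 : Set.range (w ≫ (fst M M * snd M M)).left ⊆ Set.range i.left := by
    rintro _ ⟨q, rfl⟩
    exact (hw q).2
  let a' := liftO i (w ≫ fst M M) h1
  let b' := liftO i (w ≫ snd M M) h2
  let c' := liftO i (w ≫ (fst M M * snd M M)) h3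
  -- factorization through `W`
  have hfac : ∀ {X : Over S} (x y z : X ⟶ U), (x ≫ i) * (y ≫ i) = z ≫ i →
      ∃ q : X ⟶ opn WO, q ≫ w = lift (x ≫ i) (y ≫ i) ∧ q ≫ a' = x ∧ q ≫ b' = y ∧ q ≫ c' = z := by
    intro X x y z hxyz
    have hr : Set.range (lift (x ≫ i) (y ≫ i)).left ⊆ Set.range w.left := by
      rw [range_opnι]
      rintro _ ⟨q, rfl⟩
      refine ⟨⟨?_, ?_⟩, ?_⟩
      · change (fst M M).left ((lift (x ≫ i) (y ≫ i)).left q) ∈ Set.range i.left
        rw [← Scheme.Hom.comp_apply, ← Over.comp_left, lift_fst]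
        exact ⟨x.left q, rfl⟩
      · change (snd M M).left ((lift (x ≫ i) (y ≫ i)).left q) ∈ Set.range i.left
        rw [← Scheme.Hom.comp_apply, ← Over.comp_left, lift_snd]
        exact ⟨y.left q, rfl⟩
      · change (fst M M * snd M M).left ((lift (x ≫ i) (y ≫ i)).left q) ∈ Set.range i.left
        rw [← Scheme.Hom.comp_apply, ← Over.comp_left, comp_mul, lift_fst, lift_snd, hxyz]
        exact ⟨z.left q, rfl⟩
    have hq : liftO w (lift (x ≫ i) (y ≫ i)) hr ≫ w = lift (x ≫ i) (y ≫ i) := liftO_comp _ _ _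
    refine ⟨liftO w (lift (x ≫ i) (y ≫ i)) hr, hq, ?_, ?_, ?_⟩
    · rw [← cancel_mono i, Category.assoc, liftO_comp, reassoc_of% hq, lift_fst]
    · rw [← cancel_mono i, Category.assoc, liftO_comp, reassoc_of% hq, lift_snd]
    · rw [← cancel_mono i, Category.assoc, liftO_comp, reassoc_of% hq, comp_mul, lift_fst, lift_snd, hxyz]
  have key : (a' ≫ h) * (b' ≫ h) = c' ≫ h := by
    obtain ⟨q, hq1, hq2, hq3, hq4⟩ := hfac a b c habc
    have hqd : IsDominant q.left := by
      have h5 : IsDominant (q.left ≫ w.left) := by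
        rw [← Over.comp_left, hq1]; exact hdom
      constructor
      have h6 : Set.range q.left = w.left ⁻¹' (Set.range (q.left ≫ w.left)) := by
        ext t
        constructor
        · rintro ⟨s, rfl⟩
          exact ⟨s, rfl⟩
        · rintro ⟨s, hs⟩
          exact ⟨s, w.left.isOpenEmbedding.injective hs⟩
      rw [DenseRange, h6]
      exact h5.denseRange.preimage w.left.isOpenEmbedding.isOpenMap
    have := isReduced_opn (X := M ⊗ M) WO
    apply eq_of_dominant q
    rw [comp_mul, reassoc_of% hq2, reassoc_of% hq3, reassoc_of% hq4, hadd]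
  obtain ⟨q, hq1, hq2, hq3, hq4⟩ := hfac x y z hxyz
  rw [← hq2, ← hq3, ← hq4, Category.assoc, Category.assoc, Category.assoc, ← comp_mul, key]

/-- Gluing of morphisms which are compatible on a dense open subscheme. -/
theorem exists_glue {M G U : Over S} [IsIntegral M.left] [IsSeparated G.hom] (i : U ⟶ M)
    [IsOpenImmersion i.left] [Nonempty U.left] (h : U ⟶ G) {J : Type*} (V : J → Over S) (v : ∀ t, V t ⟶ M)
    (hv : ∀ t, IsOpenImmersion (v t).left) (f : ∀ t, V t ⟶ G)
    (hcomp : ∀ t {X : Over S} (x : X ⟶ V t) (y : X ⟶ U), x ≫ v t = y ≫ i → x ≫ f t = y ≫ h)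
    (hcov : ∀ m : M.left, ∃ t, m ∈ Set.range (v t).left) : ∃ j : M ⟶ G, ∀ t, v t ≫ j = f t := by
  let 𝒰 : M.left.OpenCover := Scheme.Cover.mkOfCovers J (fun t => (V t).left) (fun t => (v t).left)
    (fun m => hcov m) (fun t => hv t)
  have hdU : Dense (Set.range i.left) :=
    (i.left.isOpenEmbedding.isOpen_range).dense (Set.range_nonempty _)
  have hcompat : ∀ s t, pullback.fst (𝒰.f s) (𝒰.f t) ≫ (f s).left = pullback.snd (𝒰.f s) (𝒰.f t) ≫ (f t).left := by
    intro s t
    have hs := hv s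
    have ht := hv t
    let O : Over S := Over.mk (pullback.fst (v s).left (v t).left ≫ (V s).hom)
    let p1 : O ⟶ V s := Over.homMk (pullback.fst (v s).left (v t).left) rfl
    let p2 : O ⟶ V t := Over.homMk (pullback.snd (v s).left (v t).left) (by
      change pullback.snd (v s).left (v t).left ≫ (V t).hom = pullback.fst (v s).left (v t).left ≫ (V s).hom
      rw [← Over.w (v s), ← Over.w (v t), pullback.condition_assoc])
    have hp : p1 ≫ v s = p2 ≫ v t := by
      ext1
      exact pullback.condition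
    have hop : IsOpenImmersion (p1 ≫ v s).left :=
      inferInstanceAs (IsOpenImmersion (pullback.fst (v s).left (v t).left ≫ (v s).left))
    have hred : IsReduced O.left := isReduced_of_isOpenImmersion (p1 ≫ v s).left
    let D : O.left.Opens := (p1 ≫ v s).left ⁻¹ᵁ i.left.opensRange
    have hD : Dense (D : Set O.left) := by
      have := hdU.preimage (p1 ≫ v s).left.isOpenEmbedding.isOpenMap
      exact this
    have hr : Set.range (opnι D ≫ p1 ≫ v s).left ⊆ Set.range i.left := by
      rintro _ ⟨q, rfl⟩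
      have h5 : (opnι D).left q ∈ Set.range (opnι D).left := ⟨q, rfl⟩
      rw [range_opnι] at h5
      exact h5
    have hdom := isDominant_opnι D hD
    have e1 : p1 ≫ f s = p2 ≫ f t := by
      apply eq_of_dominant (opnι D)
      rw [← Category.assoc, ← Category.assoc, hcomp s (opnι D ≫ p1) (liftO i (opnι D ≫ p1 ≫ v s) hr),
        hcomp t (opnι D ≫ p2) (liftO i (opnι D ≫ p1 ≫ v s) hr)]
      · rw [liftO_comp, hp, Category.assoc]
      · rw [liftO_comp, Category.assoc]
    exact congr($(e1).left)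
  let jl : M.left ⟶ G.left := Scheme.Cover.glueMorphisms 𝒰 (fun t => (f t).left) hcompat
  have hjl : ∀ t, (v t).left ≫ jl = (f t).left := fun t =>
    Scheme.Cover.ι_glueMorphisms 𝒰 (fun t => (f t).left) hcompat t
  refine ⟨Over.homMk jl ?_, fun t => ?_⟩
  · refine Scheme.Cover.hom_ext 𝒰 _ _ fun t => ?_
    change (v t).left ≫ jl ≫ G.hom = (v t).left ≫ M.hom
    rw [reassoc_of% (hjl t), Over.w, Over.w]
  · ext1
    exact hjl t

/-- A local extension of `h`. -/
structure Piece {M G U : Over S} (i : U ⟶ M) (h : U ⟶ G) where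
  V : Over S
  v : V ⟶ M
  hv : IsOpenImmersion v.left
  f : V ⟶ G
  comp : ∀ {X : Over S} (x : X ⟶ V) (y : X ⟶ U), x ≫ v = y ≫ i → x ≫ f = y ≫ h

/-- The trivial piece. -/
def Piece.base {M G U : Over S} (i : U ⟶ M) [IsOpenImmersion i.left] (h : U ⟶ G) : Piece i h where
  V := U
  v := i
  hv := inferInstance
  f := h
  comp x y hxy := by
    have := mono_of_isOpenImmersion i
    rw [cancel_mono] at hxy
    rw [hxy]

theorem range_opnι_comp {M U : Over S} (i : U ⟶ M) [IsOpenImmersion i.left] (τ : M ⟶ M) :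
    Set.range (opnι (τ.left ⁻¹ᵁ i.left.opensRange) ≫ τ).left ⊆ Set.range i.left := by
  rintro _ ⟨q, rfl⟩
  have h5 : (opnι (τ.left ⁻¹ᵁ i.left.opensRange)).left q ∈
    Set.range (opnι (τ.left ⁻¹ᵁ i.left.opensRange)).left := ⟨q, rfl⟩
  rw [range_opnι] at h5
  exact h5

/-- The translated piece `m ↦ h (m c⁻¹) h(c)`, `τ` being the translation by `c⁻¹`. -/
noncomputable def Piece.trans {M G U : Over S} [GrpObj M] [GrpObj G] (i : U ⟶ M) [IsOpenImmersion i.left]
    (h : U ⟶ G) (H : ∀ {X : Over S} (x y z : X ⟶ U), (x ≫ i) * (y ≫ i) = z ≫ i → (x ≫ h) * (y ≫ h) = z ≫ h)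
    (τ : M ⟶ M) (c : 𝟙_ (Over S) ⟶ U) (hτ : ∀ {X : Over S} (x : X ⟶ M), (x ≫ τ) * (toUnit X ≫ c ≫ i) = x) :
    Piece i h where
  V := opn (τ.left ⁻¹ᵁ i.left.opensRange)
  v := opnι _
  hv := inferInstance
  f := (liftO i (opnι (τ.left ⁻¹ᵁ i.left.opensRange) ≫ τ) (range_opnι_comp i τ) ≫ h) * (toUnit _ ≫ c ≫ h)
  comp {X} x y hxy := by
    rw [comp_mul, comp_toUnit_assoc, ← Category.assoc, ← Category.assoc (toUnit X)]
    apply H
    rw [Category.assoc, liftO_comp, ← Category.assoc, Category.assoc (toUnit X), hτ, hxy]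

end Over

section AlgClosed

variable {k : Type u} [Field k] [IsAlgClosed k]

/-- The `k`-point attached to a closed point. -/
theorem exists_point {M : Over (Spec (CommRingCat.of k))} [LocallyOfFiniteType M.hom] (m : M.left)
    (hm : IsClosed {m}) : ∃ p : 𝟙_ (Over (Spec (CommRingCat.of k))) ⟶ M,
      ∀ a : (𝟙_ (Over (Spec (CommRingCat.of k)))).left, p.left a = m := by
  refine ⟨Over.homMk (pointOfClosedPoint M.hom m hm) (pointOfClosedPoint_comp M.hom m hm), fun a => ?_⟩
  exact pointOfClosedPoint_apply M.hom m hm a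

/-- Every nonempty open subset contains a `k`-point. -/
theorem exists_point_of_isOpen {M : Over (Spec (CommRingCat.of k))} [LocallyOfFiniteType M.hom] (W : Set M.left)
    (hW : IsOpen W) (hne : W.Nonempty) : ∃ p : 𝟙_ (Over (Spec (CommRingCat.of k))) ⟶ M,
      ∀ a : (𝟙_ (Over (Spec (CommRingCat.of k)))).left, p.left a ∈ W := by
  have : JacobsonSpace M.left := LocallyOfFiniteType.jacobsonSpace (Y := Spec _) M.hom
  obtain ⟨m, hm, hmc⟩ := nonempty_inter_closedPoints hne hW.isLocallyClosed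
  obtain ⟨p, hp⟩ := exists_point m hmc
  exact ⟨p, fun a => by rw [hp]; exact hm⟩

/-- A rational homomorphism extends to a homomorphism. -/
theorem exists_hom {M G U : Over (Spec (CommRingCat.of k))} [GrpObj M] [GrpObj G] [IsIntegral M.left]
    [LocallyOfFiniteType M.hom] [IsIntegral (M ⊗ M).left] (i : U ⟶ M) [IsOpenImmersion i.left] [Nonempty U.left]
    (h : U ⟶ G) (H : ∀ {X : Over (Spec (CommRingCat.of k))} (x y z : X ⟶ U),
      (x ≫ i) * (y ≫ i) = z ≫ i → (x ≫ h) * (y ≫ h) = z ≫ h) :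
    ∃ j : M ⟶ G, IsMonHom j ∧ i ≫ j = h := by
  have hsep : IsSeparated G.hom := Groth.Agent.Books.AntiAffine.isSeparated_hom G
  have hmono : Mono i := mono_of_isOpenImmersion i
  have hcov : ∀ m : M.left, ∃ t : Piece i h, m ∈ Set.range t.v.left := by
    by_contra hcon
    push Not at hcon
    obtain ⟨m₀, hm₀⟩ := hcon
    let Z : Set M.left := {m | ∀ t : Piece i h, m ∉ Set.range t.v.left}
    have hZ : IsClosed Z := by
      have : Z = ⋂ t : Piece i h, (Set.range t.v.left)ᶜ := by
        ext m; simp [Z]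
      rw [this]
      exact isClosed_iInter fun t => (t.hv.base_open.isOpen_range).isClosed_compl
    have : JacobsonSpace M.left := LocallyOfFiniteType.jacobsonSpace (Y := Spec _) M.hom
    obtain ⟨m, hm, hmc⟩ := nonempty_inter_closedPoints (Z := Z) ⟨m₀, hm₀⟩ hZ.isLocallyClosed
    obtain ⟨p, hp⟩ := exists_point m hmc
    let θ : M ⟶ M := (toUnit M ≫ p) * (𝟙 M)⁻¹
    let θ' : M ⟶ M := (𝟙 M)⁻¹ * (toUnit M ≫ p)
    have hθ : θ' ≫ θ = 𝟙 M := by
      change θ' ≫ ((toUnit M ≫ p) * (𝟙 M)⁻¹) = _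
      rw [comp_mul, GrpObj.comp_inv, Category.comp_id, comp_toUnit_assoc]
      change (toUnit M ≫ p) * ((𝟙 M)⁻¹ * (toUnit M ≫ p))⁻¹ = 𝟙 M
      rw [_root_.mul_inv_rev, inv_inv, mul_inv_cancel_left]
    obtain ⟨y₀⟩ := ‹Nonempty U.left›
    have hopen : IsOpen (Set.range i.left) := i.left.isOpenEmbedding.isOpen_range
    have hW : (Set.range i.left ∩ θ.left ⁻¹' (Set.range i.left)).Nonempty := by
      apply nonempty_preirreducible_inter hopen (hopen.preimage θ.left.continuous)
      · exact ⟨_, y₀, rfl⟩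
      · refine ⟨θ'.left (i.left y₀), ?_⟩
        have h6 : θ.left (θ'.left (i.left y₀)) = i.left y₀ := by
          rw [← Scheme.Hom.comp_apply, ← Over.comp_left, hθ]
          rfl
        rw [Set.mem_preimage, h6]
        exact ⟨_, rfl⟩
    obtain ⟨c', hc'⟩ := exists_point_of_isOpen _ (hopen.inter (hopen.preimage θ.left.continuous)) hW
    let c : 𝟙_ (Over (Spec (CommRingCat.of k))) ⟶ U := liftO i c' (by
      rintro _ ⟨a, rfl⟩
      exact (hc' a).1)
    have hc : c ≫ i = c' := liftO_comp _ _ _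
    apply hm (Piece.trans i h H (𝟙 M * (toUnit M ≫ c ≫ i)⁻¹) c (fun {X} x => by
      rw [comp_mul, GrpObj.comp_inv, comp_toUnit_assoc, Category.comp_id, inv_mul_cancel_right]))
    change m ∈ Set.range (opnι ((𝟙 M * (toUnit M ≫ c ≫ i)⁻¹ : M ⟶ M).left ⁻¹ᵁ i.left.opensRange)).left
    rw [range_opnι]
    change (𝟙 M * (toUnit M ≫ c ≫ i)⁻¹ : M ⟶ M).left m ∈ Set.range i.left
    let a : (𝟙_ (Over (Spec (CommRingCat.of k)))).left := IsLocalRing.closedPoint k
    rw [← hp a]
    have e1 : p ≫ (𝟙 M * (toUnit M ≫ c ≫ i)⁻¹) = c' ≫ θ := by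
      change p ≫ (𝟙 M * (toUnit M ≫ c ≫ i)⁻¹) = c' ≫ ((toUnit M ≫ p) * (𝟙 M)⁻¹)
      rw [comp_mul, comp_mul, GrpObj.comp_inv, GrpObj.comp_inv, comp_toUnit_assoc, comp_toUnit_assoc, hc,
        Category.comp_id, Category.comp_id, toUnit_unique (toUnit (𝟙_ _)) (𝟙 _), Category.id_comp, Category.id_comp]
    have e2 : (𝟙 M * (toUnit M ≫ c ≫ i)⁻¹ : M ⟶ M).left (p.left a) = θ.left (c'.left a) := by
      rw [← Scheme.Hom.comp_apply, ← Over.comp_left, e1]
      rfl
    rw [e2]
    exact (hc' a).2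
  obtain ⟨j, hj⟩ := exists_glue i h (fun t : Piece i h => t.V) (fun t => t.v) (fun t => t.hv) (fun t => t.f)
    (fun t _ x y hxy => t.comp x y hxy) hcov
  have hjh : i ≫ j = h := hj (Piece.base i h)
  refine ⟨j, ?_, hjh⟩
  -- multiplicativity
  have hmul : (fst M M * snd M M) ≫ j = (fst M M ≫ j) * (snd M M ≫ j) := by
    let WO : (M ⊗ M).left.Opens := (fst M M).left ⁻¹ᵁ i.left.opensRange ⊓ (snd M M).left ⁻¹ᵁ i.left.opensRange ⊓
      (fst M M * snd M M).left ⁻¹ᵁ i.left.opensRange
    obtain ⟨y₀⟩ := ‹Nonempty U.left›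
    have hne : ∀ (g : M ⊗ M ⟶ M) (g' : M ⟶ M ⊗ M), g' ≫ g = 𝟙 M →
        ((g.left ⁻¹ᵁ i.left.opensRange : (M ⊗ M).left.Opens) : Set (M ⊗ M).left).Nonempty := by
      intro g g' hg
      refine ⟨g'.left (i.left y₀), ?_⟩
      have h6 : g.left (g'.left (i.left y₀)) = i.left y₀ := by
        rw [← Scheme.Hom.comp_apply, ← Over.comp_left, hg]
        rfl
      change g.left (g'.left (i.left y₀)) ∈ Set.range i.left
      rw [h6]
      exact ⟨_, rfl⟩
    have n1 := hne (fst M M) (lift (𝟙 M) (𝟙 M)) (lift_fst _ _)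
    have n2 := hne (snd M M) (lift (𝟙 M) (𝟙 M)) (lift_snd _ _)
    have n3 := hne (fst M M * snd M M) (lift (𝟙 M) 1) (by rw [comp_mul, lift_fst, lift_snd, _root_.mul_one])
    have hd : Dense (WO : Set (M ⊗ M).left) := by
      apply WO.2.dense
      exact nonempty_preirreducible_inter
        (((fst M M).left ⁻¹ᵁ i.left.opensRange ⊓ (snd M M).left ⁻¹ᵁ i.left.opensRange).2)
        ((fst M M * snd M M).left ⁻¹ᵁ i.left.opensRange).2
        (nonempty_preirreducible_inter ((fst M M).left ⁻¹ᵁ i.left.opensRange).2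
          ((snd M M).left ⁻¹ᵁ i.left.opensRange).2 n1 n2) n3
    have hdom := isDominant_opnι WO hd
    have hw : ∀ q : (opn WO).left, (opnι WO).left q ∈ WO := fun q => by
      have : (opnι WO).left q ∈ Set.range (opnι WO).left := ⟨q, rfl⟩
      rw [range_opnι] at this
      exact this
    have h1 : Set.range (opnι WO ≫ fst M M).left ⊆ Set.range i.left := by
      rintro _ ⟨q, rfl⟩
      exact (hw q).1.1
    have h2 : Set.range (opnι WO ≫ snd M M).left ⊆ Set.range i.left := by
      rintro _ ⟨q, rfl⟩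
      exact (hw q).1.2
    have h3 : Set.range (opnι WO ≫ (fst M M * snd M M)).left ⊆ Set.range i.left := by
      rintro _ ⟨q, rfl⟩
      exact (hw q).2
    apply eq_of_dominant (opnι WO)
    rw [comp_mul, ← Category.assoc, ← Category.assoc, ← Category.assoc, ← liftO_comp i (opnι WO ≫ fst M M) h1,
      ← liftO_comp i (opnι WO ≫ snd M M) h2, ← liftO_comp i (opnι WO ≫ (fst M M * snd M M)) h3, Category.assoc,
      Category.assoc, Category.assoc, hjh]
    symm
    apply H
    rw [liftO_comp, liftO_comp, liftO_comp, comp_mul]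
  have hmul' : μ[M] ≫ j = (j ⊗ₘ j) ≫ μ[G] := by
    have e1 : fst M M * snd M M = μ[M] := by
      rw [Hom.mul_def, lift_fst_snd, Category.id_comp]
    rw [e1] at hmul
    rw [hmul, Hom.mul_def]
    congr 1
  exact IsMonHom.mk (by
    -- `j 1 = 1`
    have h5 : (η[M] ≫ j) * (η[M] ≫ j) = η[M] ≫ j := by
      rw [Hom.mul_def, ← lift_map, Category.assoc, ← hmul', ← Category.assoc, ← Hom.mul_def]
      congr 1
      have : (η[M] : 𝟙_ _ ⟶ M) = 1 := by rw [Hom.one_def]; simp
      rw [this, _root_.mul_one]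
    have h6 : η[M] ≫ j = 1 := by
      have := mul_left_cancel (h5.trans (_root_.mul_one _).symm)
      exact this
    rw [h6, Hom.one_def]
    simp) hmul'

end AlgClosed

end Groth.Agent.Sga7.H737.RatHom
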